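import Groth.Agent.AbVar.K70.TopDual
import Groth.Agent.AbVar.K526.Inst
import Groth.Agent.AbVar.K524.Bc
import Groth.Agent.AbSch.K450.RRChi
import Groth.Agent.CohqB.HomSheafCoh
import Groth.Agent.S1752
import Groth.Agent.S11892
import Groth.Agent.S1841
/-!
# Duality in top degree on an abelian variety

`exists_dual`: for a coherent class `c` on an abelian variety `A` of dimension `g` there is a coherent class `d` (the dual
`Hom(c, O)`) with `h^g(v ⊗ b^*c) = h^0(v⁻¹ ⊗ b^*d)` for all `b ≥ 1` and all invertible `v`.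
-/

set_option autoImplicit false
universe u
open CategoryTheory CategoryTheory.Limits MonoidalCategory CartesianMonoidalCategory AlgebraicGeometry
open scoped MonObj
open Groth.Agent Groth.Agent.Fga.PicMon Groth.Agent.Fga Groth.Agent.Pic13.H11.Cls Groth.Agent.Pic13.H11.NumU
  Groth.Agent.Grpsch.PicGrp Groth.Agent.Grpsch.Cube

namespace K70.TopDual

open K526 K526.Cut K526.PullM K518.Phi K526.Core K526.Inst DualN
open Groth.Agent.CohqB.HomSheaf

variable {k : Type u} [Field k] [IsAlgClosed k] {A : Over (Spec (CommRingCat.of k))} [GrpObj A] [IsProper A.hom]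
  [GeometricallyIntegral A.hom]

omit [IsAlgClosed k] [GrpObj A] [GeometricallyIntegral A.hom] in
theorem exists_pair {g : ℕ} (hdim : topologicalKrullDim A.left = g) :
    ∃ (ω : A.left.Modules) (t : Coh.HH A.left ω g →ₗ[k] k), Coh.IsCoh ω ∧ IsPairN k t :=
  S1752.result k A.left g hdim

theorem not_V_one {g : ℕ} (hdim : topologicalKrullDim A.left = g) : ¬ V g (1 : MC A.left) := by
  intro h
  have h1 : Subsingleton (Coh.HH A.left (Coh.structureModule A.left) g) := h
  have i1 : GrpObj (Over.mk (A.left ↘ Spec (CommRingCat.of k))) := ‹GrpObj A›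
  have i2 : Smooth (A.left ↘ Spec (CommRingCat.of k)) := Grpsch.AbBC.smooth_hom A
  have i3 : IsIntegral A.left := K518.Basic.isIntegral_left A
  have h2 := S11892.result k A.left g hdim g
  rw [Nat.choose_self, Module.finrank_zero_of_subsingleton] at h2
  exact absurd h2 (by norm_num)

theorem h_inv_eq {g : ℕ} (hdim : topologicalKrullDim A.left = g) {H : A.left.Modules} (hH : CohB1.IsAmple H)
    {n : ℕ} (hn : 1 ≤ n) :
    h k g ((((unit hH.1) ^ n)⁻¹ : (MC A.left)ˣ) : MC A.left) =
      h k 0 (((unit hH.1) ^ n : (MC A.left)ˣ) : MC A.left) := by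
  obtain ⟨P, hP, hPu⟩ := exists_mk (mk H hH.1 ^ n)
  obtain ⟨Q, hQ, hQu⟩ := exists_mk (mk H hH.1 ^ n)⁻¹
  have i0 := hasIdx_pow hH hdim hn
  have ig := (i0.inv g hdim (nd_pow hH hn)).2
  rw [hPu] at i0
  rw [hQu, Nat.sub_zero] at ig
  have c0 := K524.Bc.chi_eq hP i0
  have cg := K524.Bc.chi_eq hQ ig
  rw [K524.Chi.chi_mk] at c0 cg
  have e0 : toU (mk H hH.1) = unit hH.1 := Units.ext (by rw [toU_mk_val, unit_val])
  have e1 : (((unit hH.1) ^ n : (MC A.left)ˣ) : MC A.left) = mc P := by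
    rw [← toU_mk_val hP, ← hPu, map_pow, e0]
  have e2 : ((((unit hH.1) ^ n)⁻¹ : (MC A.left)ˣ) : MC A.left) = mc Q := by
    rw [← toU_mk_val hQ, ← hQu, map_inv, map_pow, e0]
  have hPQ : mc P * mc Q = 1 := by rw [← e1, ← e2, Units.mul_inv]
  have h1 := K450.RRChi.chi_inv k A g hdim P Q hP hQ hPQ
  rw [K450.RRChi.chi_mc k A g hdim, K450.RRChi.chi_mc k A g hdim, c0, cg] at h1
  have h2 := mul_left_cancel₀ (pow_ne_zero g (by norm_num : (-1 : ℤ) ≠ 0)) h1
  rw [pow_zero, one_mul] at h2
  rw [e1, e2, h_mc, h_mc]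
  exact_mod_cast h2

/-- Duality in top degree. -/
theorem exists_dual {g : ℕ} (hdim : topologicalKrullDim A.left = g) (c : MC A.left) (hc : Co c) :
    ∃ d : MC A.left, Co d ∧ ∀ b : ℕ, 1 ≤ b → ∀ v : (MC A.left)ˣ,
      h k g (v • pm (nn A b).left c) = h k 0 (v⁻¹ • pm (nn A b).left d) := by
  obtain ⟨H, hH⟩ := S1841.result k A
  obtain ⟨ω, t, hω, ht⟩ := exists_pair hdim
  have hN := IntAdd.isNoetherian k A.left
  obtain ⟨e⟩ := exists_iso k hdim.le hH (fun n hn => by
      have e0 : toU (mk H hH.1) = unit hH.1 := Units.ext (by rw [toU_mk_val, unit_val])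
      rw [← e0, ← map_pow, V_toU]
      exact van_pow hH hn le_rfl)
    (fun n hn => (h_inv_eq hdim hH hn).le) (not_V_one hdim) hω ht
  induction c using MC.ind with | h F => ?_
  refine ⟨mc (homSheaf F (Coh.structureModule A.left)), ?_, ?_⟩
  · exact isCoh_homSheaf hc (CurvesC.UnitCoh.isCoh_unit _)
  · intro b hb v
    have := flat_nn (A := A) hb
    exact top_dual k e ht (nn A b).left hc v

end K70.TopDual
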