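import Groth.Agent.CurvesC.DualCount
import Groth.Agent.CohqB.HomSheaf

/-!
# Counting with a dualizing pair in degree `n`

`IsPairN k t`, `t : Hⁿ(X, w) → k`: the pair `(w, t)` represents `F ↦ Hⁿ(X, F)^*` on quasi-coherent modules.
`finrank_homSheaf`: `dim H⁰(X, Hom(F, w)) = dim Hⁿ(X, F)`.
-/

set_option autoImplicit false
universe u
open AlgebraicGeometry CategoryTheory TopologicalSpace Opposite

namespace K70.DualN

open Groth.Agent.Ega1.SubSheaf Groth.Agent.CohqB.HSeqMod Groth.Agent.CurvesB.HZero Groth.Agent.CurvesC.DualCount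
open Groth.Agent.CohqB.HomSheaf

variable {X : Scheme.{u}} (k : Type u) [Field k] [X.Over (Spec (CommRingCat.of k))]

/-- The functional `t ∘ Hⁿ(φ)`. -/
noncomputable def dmapN {n : ℕ} {w : X.Modules} (t : Coh.HH X w n →ₗ[k] k) {F : X.Modules} (φ : F ⟶ w) :
    Module.Dual k (Coh.HH X F n) := t.comp (hmapₗ k φ n)

@[simp] theorem dmapN_apply {n : ℕ} {w : X.Modules} (t : Coh.HH X w n →ₗ[k] k) {F : X.Modules} (φ : F ⟶ w)
    (x : Coh.HH X F n) : dmapN k t φ x = t (hmap φ n x) := rfl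

/-- `(w, t)` is a dualizing pair in degree `n`. -/
def IsPairN {n : ℕ} {w : X.Modules} (t : Coh.HH X w n →ₗ[k] k) : Prop :=
  ∀ F : X.Modules, Coh.IsQCoh F → ∀ ψ : Coh.HH X F n →ₗ[k] k, ∃! φ : F ⟶ w,
    ∀ x : Coh.HH X F n, ψ x = t (Sheaf.H.map ((SheafOfModules.toSheaf X.ringCatSheaf).map φ) n x)

variable {k}

theorem IsPairN.bijective {n : ℕ} {w : X.Modules} {t : Coh.HH X w n →ₗ[k] k} (ht : IsPairN k t) {F : X.Modules}
    (hF : Coh.IsQCoh F) : Function.Bijective (dmapN k t (F := F)) := by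
  constructor
  · intro φ φ' h
    obtain ⟨φ₀, -, hφ₀⟩ := ht F hF (dmapN k t φ)
    rw [hφ₀ φ (fun x => rfl), hφ₀ φ' (fun x => by rw [h]; rfl)]
  · intro ψ
    obtain ⟨φ, hφ, -⟩ := ht F hF ψ
    exact ⟨φ, LinearMap.ext fun x => (hφ x).symm⟩

/-- Linear map to the dual obtained from a family of morphisms. -/
noncomputable def toDualN {n : ℕ} {w : X.Modules} (t : Coh.HH X w n →ₗ[k] k) {F G : X.Modules}
    (θ : Γ(G, ⊤) → (F ⟶ w)) (hadd : ∀ s s', θ (s + s') = θ s + θ s')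
    (hsmul : ∀ (r : Γ(X, ⊤)) s, IsSmul r (θ s) (θ (r • s))) :
    Coh.HH X G 0 →ₗ[k] Module.Dual k (Coh.HH X F n) where
  toFun v := dmapN k t (θ (equivAdd G v))
  map_add' v v' := by
    ext x
    simp only [dmapN_apply, map_add, hadd, hmap_add_apply, LinearMap.add_apply]
  map_smul' a v := by
    ext x
    simp only [dmapN_apply, LinearMap.smul_apply, RingHom.id_apply]
    rw [equivAdd_smul_over, hmap_isSmul (hsmul _ _)]
    exact t.map_smul a _

theorem h0_eqN {n : ℕ} {w : X.Modules} {t : Coh.HH X w n →ₗ[k] k} (ht : IsPairN k t) {F G : X.Modules}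
    (hF : Coh.IsQCoh F) (θ : Γ(G, ⊤) → (F ⟶ w))
    (hadd : ∀ s s', θ (s + s') = θ s + θ s')
    (hsmul : ∀ (r : Γ(X, ⊤)) s, IsSmul r (θ s) (θ (r • s))) (hbij : Function.Bijective θ) :
    Module.finrank k (Coh.HH X G 0) = Module.finrank k (Coh.HH X F n) := by
  rw [← Subspace.dual_finrank_eq (K := k) (V := Coh.HH X F n)]
  refine LinearEquiv.finrank_eq (LinearEquiv.ofBijective (toDualN t θ hadd hsmul) ?_)
  exact (ht.bijective hF).comp (hbij.comp (equivAdd G).bijective)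

/-- `dim H⁰(X, Hom(F, w)) = dim Hⁿ(X, F)`. -/
theorem finrank_homSheaf {n : ℕ} {w : X.Modules} {t : Coh.HH X w n →ₗ[k] k} (ht : IsPairN k t) {F : X.Modules}
    (hF : Coh.IsQCoh F) :
    Module.finrank k (Coh.HH X (homSheaf F w) 0) = Module.finrank k (Coh.HH X F n) := by
  refine h0_eqN ht hF (G := homSheaf F w) (topEquiv F w) (fun s s' => map_add _ s s') (fun r s U x => ?_)
    (topEquiv F w).bijective
  rw [topEquiv_app, topEquiv_app, comp_smul]
  rfl

end K70.DualN
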