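import Groth.Agent.AbVar.K70.DualN
import Groth.Agent.AbVar.K526.Van
import Groth.Agent.Vanish.K911.Dual
import Groth.Agent.Htor.H255.ThetaIso
import Groth.Agent.Fga.HodgeCore
import Groth.Agent.Sga67.SerreVB
import Groth.Agent.S2325
import Groth.Agent.Krr.H482.PullTens
import Groth.Agent.FormalB.PullCoh
import Groth.Agent.Fga.HypSec

/-!
# Duality in top degree when the dualizing module is the structure sheaf

`exists_iso`: `X` proper and integral of dimension `g` over a field, `H` ample of class `η`, `H¹(ηⁿ) = 0` and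
`h^g(η⁻ⁿ) ≤ h⁰(ηⁿ)` for `n ≥ 1` and `H^g(O) ≠ 0`: a coherent module `ω` representing `F ↦ H^g(X, F)^*` is isomorphic to `O_X`.

`top_dual`: then `h^g(u • [f^*F]) = h⁰(u⁻¹ • [f^* Hom(F, O)])` for `f : X ⟶ X` flat, `F` coherent and `u` a unit.
-/

set_option autoImplicit false
universe u
open CategoryTheory CategoryTheory.Limits AlgebraicGeometry MonoidalCategory TopologicalSpace

namespace K70.TopDual

open Groth.Agent Groth.Agent.Fga.PicMon Groth.Agent.Fga Groth.Agent.Pic13.H11.Cls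
open Groth.Agent.CohqB.HomSheaf Groth.Agent.CohqB.HSeqMod Groth.Agent.CurvesB Groth.Agent.CurvesB.HZero
open Groth.Agent.CurvesC.DualCount DualN

variable {X : Scheme.{u}}

/-! ### Internal Hom and twists -/

open scoped Groth.Agent.Dcoh.MonCat in
/-- `Hom(O, G) ≅ G` -/
theorem nonempty_homUnit (G : X.Modules) : Nonempty (homSheaf (Coh.structureModule X) G ≅ G) := by
  have a : tensorLeft (𝟙_ X.Modules) ⊣ Dcoh.MonClosed.homFunctor (Coh.structureModule X) :=
    Dcoh.MonClosed.tensorHomAdj (Coh.structureModule X)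
  have b : 𝟭 X.Modules ⊣ 𝟭 X.Modules := Adjunction.id
  have e : tensorLeft (𝟙_ X.Modules) ≅ 𝟭 X.Modules := leftUnitorNatIso X.Modules
  exact ⟨(Adjunction.rightAdjointUniq a (b.ofNatIsoLeft e.symm)).app G⟩

theorem mc_homUnit (G : X.Modules) : mc (homSheaf (Coh.structureModule X) G) = mc G := by
  obtain ⟨e⟩ := nonempty_homUnit G
  exact mc_eq e

/-- `[Hom(F ⊗ P, G)] = [P]⁻¹ [Hom(F, G)]` -/
theorem mc_hom_smul {u : (MC X)ˣ} {P : X.Modules} (F G : X.Modules) (hu : mc P = (u : MC X)) :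
    mc (homSheaf (CohB1.tensorMod F P) G) = u⁻¹ • mc (homSheaf F G) := by
  obtain ⟨P', hP', hu'⟩ := exists_invertible u⁻¹
  have hinv : ClSub.IsInverseOf P' P := by
    rw [K911.DivCls.isInverseOf_iff, hu, hu', Units.inv_mul]
  obtain ⟨e⟩ := K911.Dual.nonempty_homTensorIso F P P' G hinv
  have e1 := (Dcoh.MonClosed.sheafHomIso (CohB1.tensorMod F P)).app G
  have e2 := (Dcoh.MonClosed.sheafHomIso F).app G
  have h1 := mc_eq e1
  have h2 := mc_eq e2
  have h3 := mc_eq e
  rw [mc_tensor, hu'] at h3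
  exact h1.symm.trans (h3.trans (congrArg (fun c => ((u⁻¹ : (MC X)ˣ) : MC X) * c) h2))

open scoped Groth.Agent.Dcoh.MonCat in
/-- `Hom` on isomorphic modules. -/
theorem mc_hom_congr_left {F F' : X.Modules} (G : X.Modules) (h : mc F = mc F') :
    mc (homSheaf F G) = mc (homSheaf F' G) := by
  obtain ⟨e⟩ := (mc_eq_iff _ _).1 h
  have a := Dcoh.MonClosed.tensorHomAdj F
  have b := Dcoh.MonClosed.tensorHomAdj F'
  have e' : tensorLeft F ≅ tensorLeft F' := (tensoringLeft X.Modules).mapIso e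
  exact mc_eq ((Adjunction.rightAdjointUniq a (b.ofNatIsoLeft e'.symm)).app G)

theorem mc_hom_congr_right (F : X.Modules) {G G' : X.Modules} (h : mc G = mc G') :
    mc (homSheaf F G) = mc (homSheaf F G') := by
  obtain ⟨e⟩ := (mc_eq_iff _ _).1 h
  exact mc_eq ((Dcoh.MonClosed.homFunctor F).mapIso e)

/-! ### Small lemmas -/

/-- A globally generated module without nonzero global sections is zero. -/
theorem isZero_of_gg {F : X.Modules} (h : Curv2.IsGloballyGenerated F) (h0 : Subsingleton (Coh.HH X F 0)) :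
    IsZero F := by
  obtain ⟨ι, p, hp⟩ := h
  have h1 : ∀ s : Γ(F, ⊤), s = 0 := fun s => by
    have h2 := Subsingleton.elim ((equivAdd F).symm s) ((equivAdd F).symm 0)
    exact (equivAdd F).symm.injective h2
  have hp0 : p = 0 := VarietyB.GGStalk.free_hom_ext fun i => (h1 _).trans (h1 _).symm
  exact @IsZero.of_epi_eq_zero X.Modules _ _ _ _ p hp hp0

variable (k : Type u) [Field k] [X.Over (Spec (CommRingCat.of k))] [IsProper (X ↘ Spec (CommRingCat.of k))]

/-- `H⁰` of a quotient, by counting. -/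
theorem V_zero_of_le {a b c : MC X} (hs : Ses a b c) (ha : V 1 a) (hle : h k 0 b ≤ h k 0 a) : V 0 c := by
  obtain ⟨S, hS, h1, h2, h3, rfl, rfl, rfl⟩ := hs
  have f1 := HodgeSec.finite_HH' k h1 0
  have f2 := HodgeSec.finite_HH' k h2 0
  have f3 := HodgeSec.finite_HH' k h3 0
  rw [h_mc, h_mc, VarietyA.EulerAdd.finrank_eq k S hS 0, VarietyA.EulerAdd.finrank_eq₀ k S hS] at hle
  have h4 := VarietyA.EulerAdd.finrank_eq₃ k S hS 0
  have h5 : Module.finrank k (LinearMap.range (VarietyA.EulerLES.deltaA k S hS 0 (0 + 1) rfl)) = 0 := by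
    have : Subsingleton (Coh.HH X S.X₁ (0 + 1)) := ha
    exact Module.finrank_zero_of_subsingleton
  have h6 : Module.finrank k (Coh.HH X S.X₃ 0) = 0 := by omega
  exact Module.finrank_zero_iff.mp h6

include k in
/-- A morphism `O ⟶ ω` on an integral scheme which is not zero on `H^g`, `g = dim X`, is a monomorphism. -/
theorem mono_of_hmap_ne [IsIntegral X] {g : ℕ} (hd : topologicalKrullDim X ≤ g) {ω : X.Modules} (hω : Coh.IsQCoh ω)
    (φ : Coh.structureModule X ⟶ ω) (x : Coh.HH X (Coh.structureModule X) g) (hx : hmap φ g x ≠ 0) : Mono φ := by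
  have hN := IntAdd.isNoetherian k X
  by_contra hm
  have hk : kernel.ι φ ≠ 0 := fun h => hm (Preadditive.mono_of_kernel_zero h)
  have hO : Coh.IsCoh (Coh.structureModule X) := CurvesC.UnitCoh.isCoh_unit X
  have hl : RankOne.LocEmb (Coh.structureModule X) :=
    InvEmb.locEmb_of_isInvertible Fdesc.LocGen.isInvertible_structureModule
  have hT := RankOne.isTors_of_epi hl (kernel.ι φ) hk (cokernel.π (kernel.ι φ)) (cokernel.condition _)
  have hη := HodgeCore.not_mem_support_of_isTors hT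
  have hV : V g (mc (cokernel (kernel.ι φ))) :=
    K526.V_of_generic k (c := mc (cokernel (kernel.ι φ)))
      (Sga67.CohBasic.isCoh_cokernel (kernel.ι φ) (PerfA.QCohSerre.isQCoh_kernel φ hO.1 hω) hO) hη hd le_rfl
  have hf : cokernel.π (kernel.ι φ) ≫ cokernel.desc _ φ (kernel.condition φ) = φ := cokernel.π_desc _ _ _
  apply hx
  rw [← hf, hmap_comp_apply]
  have h0 : Subsingleton (Coh.HH X (cokernel (kernel.ι φ)) g) := hV
  rw [Subsingleton.elim (hmap (cokernel.π (kernel.ι φ)) g x) 0, map_zero]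

/-- The dualizing module is the structure sheaf. -/
theorem exists_iso [IsIntegral X] {g : ℕ} (hd : topologicalKrullDim X ≤ g) {H : X.Modules} (hH : CohB1.IsAmple H)
    (hv : ∀ n : ℕ, 1 ≤ n → V 1 (((unit hH.1) ^ n : (MC X)ˣ) : MC X))
    (hh : ∀ n : ℕ, 1 ≤ n →
      h k g ((((unit hH.1) ^ n)⁻¹ : (MC X)ˣ) : MC X) ≤ h k 0 (((unit hH.1) ^ n : (MC X)ˣ) : MC X))
    (h0 : ¬ V g (1 : MC X)) {ω : X.Modules} (hω : Coh.IsCoh ω) {t : Coh.HH X ω g →ₗ[k] k} (ht : IsPairN k t) :
    Nonempty (ω ≅ Coh.structureModule X) := by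
  have hN := IntAdd.isNoetherian k X
  have hsep := HypSec.isSeparated k X
  have hO : Coh.IsCoh (Coh.structureModule X) := CurvesC.UnitCoh.isCoh_unit X
  have hnt : Nontrivial (Coh.HH X (Coh.structureModule X) g) := not_subsingleton_iff_nontrivial.mp h0
  obtain ⟨x, hx⟩ := exists_ne (0 : Coh.HH X (Coh.structureModule X) g)
  obtain ⟨ψ, hψ⟩ : ∃ ψ : Module.Dual k (Coh.HH X (Coh.structureModule X) g), ψ x ≠ 0 := by
    by_contra h
    push Not at h
    exact hx ((Module.forall_dual_apply_eq_zero_iff k x).1 h)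
  obtain ⟨φ, hφ, -⟩ := ht (Coh.structureModule X) hO.1 ψ
  have hm : Mono φ := by
    refine mono_of_hmap_ne k hd hω.1 φ x fun h => hψ ?_
    rw [hφ x]
    exact (congrArg t h).trans (map_zero t)
  have hs : Ses (1 : MC X) (mc ω) (mc (cokernel φ)) := Ses.of_mono φ hO hω
  have hC : Coh.IsCoh (cokernel φ) := hs.co₃
  obtain ⟨n₀, hn⟩ := S2325.result X H hH (cokernel φ) hC
  have h1 : V 0 ((unit hH.1) ^ (n₀ + 1) • mc (cokernel φ)) := by
    refine V_zero_of_le k (hs.smul ((unit hH.1) ^ (n₀ + 1))) ?_ ?_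
    · rw [smul_one']
      exact hv _ (by omega)
    · rw [smul_one']
      refine le_trans (le_of_eq ?_) (hh (n₀ + 1) (by omega))
      obtain ⟨P, hP, hu⟩ := exists_invertible ((unit hH.1) ^ (n₀ + 1))⁻¹
      have h2 := mc_hom_smul (Coh.structureModule X) ω hu
      rw [inv_inv, mc_homUnit] at h2
      have h3 : mc (CohB1.tensorMod (Coh.structureModule X) P) =
          ((((unit hH.1) ^ (n₀ + 1))⁻¹ : (MC X)ˣ) : MC X) := by
        rw [mc_tensor, hu]
        exact one_mul _
      rw [← h2, ← h3, h_mc, h_mc]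
      refine finrank_homSheaf ht ?_
      exact (TwistCoh.isCoh_tensor hO hP).1
  have h2 : (unit hH.1) ^ (n₀ + 1) • mc (cokernel φ) =
      mc (CohB1.tensorMod (cokernel φ) (CohB1.tensorPow H (n₀ + 1))) := by
    rw [smul_def, Units.val_pow_eq_pow_val, unit_val, ← mc_tensorPow, mul_comm, ← mc_tensor]
  rw [h2] at h1
  have h3 := isZero_of_gg (hn (n₀ + 1) (by omega)) h1
  have h4 : supp (mc (cokernel φ)) = ∅ := by
    rw [← supp_smul ((unit hH.1) ^ (n₀ + 1)), h2]
    exact CohqB.DevSupport.support_eq_empty_of_isZero h3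
  have h5 : IsZero (cokernel φ) := CohqB.DevSupport.isZero_of_support_eq_empty h4
  have h6 : Epi φ := Preadditive.epi_of_cokernel_zero (h5.eq_of_tgt _ _)
  have h7 : IsIso φ := isIso_of_mono_of_epi φ
  exact ⟨(asIso φ).symm⟩

omit [IsProper (X ↘ Spec (CommRingCat.of k))] in
/-- Duality in top degree, with twists and flat pullbacks. -/
theorem top_dual {g : ℕ} {ω : X.Modules} (e : ω ≅ Coh.structureModule X) {t : Coh.HH X ω g →ₗ[k] k}
    (ht : IsPairN k t) {Y : Scheme.{u}} [IsLocallyNoetherian Y] (f : X ⟶ Y) [Flat f] {F : Y.Modules}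
    (hF : Coh.IsCoh F) (u : (MC X)ˣ) :
    h k g (u • mc ((Scheme.Modules.pullback f).obj F)) =
      h k 0 (u⁻¹ • mc ((Scheme.Modules.pullback f).obj (homSheaf F (Coh.structureModule Y)))) := by
  obtain ⟨P, hP, hu⟩ := exists_invertible u
  have hF' : Coh.IsCoh ((Scheme.Modules.pullback f).obj F) := FormalB.PullCoh.isCoh_pullback f hF
  have h1 : u • mc ((Scheme.Modules.pullback f).obj F) =
      mc (CohB1.tensorMod ((Scheme.Modules.pullback f).obj F) P) := by
    rw [smul_def, ← hu, mul_comm, ← mc_tensor]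
  have h2 : mc ((Scheme.Modules.pullback f).obj (homSheaf F (Coh.structureModule Y))) =
      mc (homSheaf ((Scheme.Modules.pullback f).obj F) ω) := by
    have e1 := (Htor.H255.ThetaIso.thetaIso f F hF.1 (Htor.H255.ThetaIso.isFP_of_isCoh hF)).app (Coh.structureModule Y)
    refine (mc_eq e1).trans (mc_hom_congr_right _ ?_)
    exact (mc_eq (Krr.H482.PullTens.pullUnitIso f)).trans (mc_eq e).symm
  rw [h2, ← mc_hom_smul _ _ hu, h1, h_mc, h_mc]
  exact (finrank_homSheaf ht (TwistCoh.isCoh_tensor hF' hP).1).symm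

end K70.TopDual
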